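import Mathlib
import Cfsg.Agent.Lib.Helper5.CS4.Defs
import Cfsg.Agent.S4034
import Cfsg.Agent.Lib.Helper67.SylowLemmas
import Cfsg.Agent.Lib.Helper97.Breadth.Mono

set_option autoImplicit false

/-! CS4 (S4146) package [E1] (helper46). -/

namespace Cfsg.Agent.Lib.Helper46.CS4

open Cfsg.Agent.Lib.Helper5.CS4

universe u

/-- primary decomposition of an element with respect to a prime `t`. -/
theorem prim_decomp {G : Type u} [Group G] [Finite G] (h : G) (t : ℕ) (ht : t.Prime) :
    ∃ a b : ℕ, h = h ^ a * h ^ b ∧ (∃ i : ℕ, orderOf (h ^ a) = t ^ i) ∧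
      (orderOf (h ^ b)).Coprime t := by
  have hN : orderOf h ≠ 0 := (orderOf_pos h).ne'
  obtain ⟨i, m, hm, hNe⟩ := Nat.exists_eq_pow_mul_and_not_dvd hN t ht.ne_one
  have hmt : m.Coprime t := ((Nat.Prime.coprime_iff_not_dvd ht).mpr hm).symm
  have hcop : (t ^ i).Coprime m := Nat.Coprime.pow_left _ hmt.symm
  obtain ⟨u, hu1, hu2⟩ := Nat.chineseRemainder hcop 1 0
  obtain ⟨v, hv1, hv2⟩ := Nat.chineseRemainder hcop 0 1
  refine ⟨u, v, ?_, ?_, ?_⟩
  · rw [← pow_add]
    conv_lhs => rw [← pow_one h]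
    rw [pow_eq_pow_iff_modEq, hNe]
    have h1 : u + v ≡ 1 [MOD t ^ i] := by simpa using hu1.add hv1
    have h2 : u + v ≡ 1 [MOD m] := by simpa using hu2.add hv2
    exact ((Nat.modEq_and_modEq_iff_modEq_mul hcop).mp ⟨h1.symm, h2.symm⟩)
  · have hmu : m ∣ u := (Nat.modEq_zero_iff_dvd).mp hu2
    have h1 : (h ^ u) ^ (t ^ i) = 1 := by
      rw [← pow_mul]
      apply orderOf_dvd_iff_pow_eq_one.mp
      rw [hNe, mul_comm u]
      exact Nat.mul_dvd_mul (dvd_refl _) hmu
    obtain ⟨j, -, hj⟩ := (Nat.dvd_prime_pow ht).mp (orderOf_dvd_of_pow_eq_one h1)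
    exact ⟨j, hj⟩
  · have htv : t ^ i ∣ v := (Nat.modEq_zero_iff_dvd).mp hv1
    have h1 : (h ^ v) ^ m = 1 := by
      rw [← pow_mul]
      apply orderOf_dvd_iff_pow_eq_one.mp
      rw [hNe]
      exact Nat.mul_dvd_mul htv (dvd_refl _)
    exact Nat.Coprime.coprime_dvd_left (orderOf_dvd_of_pow_eq_one h1) hmt

/-- if all `t'`-elements are central, a Sylow `t`-subgroup is normal. -/
theorem sylow_normal_of_central {H : Type u} [Group H] [Finite H] (t : ℕ) [Fact t.Prime]
    (hc : ∀ y : H, (orderOf y).Coprime t → y ∈ Subgroup.center H) (P : Sylow t H) :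
    (P : Subgroup H).Normal := by
  rw [← Subgroup.normalizer_eq_top_iff, ← Subgroup.index_eq_one,
    Nat.eq_one_iff_not_exists_prime_dvd]
  intro r hr hdvd
  by_cases hrt : r = t
  · subst hrt
    exact P.not_dvd_index (hdvd.trans (Subgroup.index_dvd_of_le Subgroup.le_normalizer))
  · have : Fact r.Prime := ⟨hr⟩
    obtain ⟨R⟩ : Nonempty (Sylow r H) := inferInstance
    have hR : (R : Subgroup H) ≤ Subgroup.normalizer ((P : Subgroup H) : Set H) := by
      intro y hy
      apply Subgroup.center_le_normalizer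
      apply hc
      obtain ⟨k, hk⟩ := IsPGroup.iff_orderOf.mp R.isPGroup' ⟨y, hy⟩
      rw [Subgroup.orderOf_mk] at hk
      rw [hk]
      exact Nat.Coprime.pow_left k ((Nat.coprime_primes hr Fact.out).mpr hrt)
    exact R.not_dvd_index (hdvd.trans (Subgroup.index_dvd_of_le hR))

/-- a `t`-element lies in a normal Sylow `t`-subgroup. -/
theorem mem_sylow_of_normal {H : Type u} [Group H] [Finite H] (t : ℕ) [Fact t.Prime]
    (P : Sylow t H) (hn : (P : Subgroup H).Normal) (g : H) (i : ℕ) (hg : orderOf g = t ^ i) :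
    g ∈ (P : Subgroup H) := by
  have hz : IsPGroup t (Subgroup.zpowers g) :=
    IsPGroup.of_card (n := i) (by rw [Nat.card_zpowers, hg])
  obtain ⟨Q, hQ⟩ := hz.exists_le_sylow
  obtain ⟨c, hc⟩ := MulAction.exists_smul_eq H P Q
  have hQP : Q = P := by
    rw [← hc]
    exact Sylow.smul_eq_of_normal
  rw [← hQP]
  exact hQ (Subgroup.mem_zpowers g)

/-- if an abelian subgroup has index prime to `t`, every `t`-subgroup is commutative. -/
theorem comm_of_pgroup_of_abelian {H : Type u} [Group H] [Finite H] (t : ℕ) [Fact t.Prime]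
    (L : Subgroup H) (hL : ∀ a ∈ L, ∀ b ∈ L, a * b = b * a) (hLi : ¬ t ∣ L.index)
    (T : Subgroup H) (hT : IsPGroup t T) : ∀ a ∈ T, ∀ b ∈ T, a * b = b * a := by
  obtain ⟨P₁⟩ : Nonempty (Sylow t ↥L) := inferInstance
  have hp : IsPGroup t ((P₁ : Subgroup ↥L).map L.subtype) := P₁.isPGroup'.map _
  have hi : ¬ t ∣ ((P₁ : Subgroup ↥L).map L.subtype).index := by
    rw [Subgroup.index_map_subtype]
    exact Nat.Prime.not_dvd_mul Fact.out P₁.not_dvd_index hLi
  obtain ⟨Q, hQ⟩ := hT.exists_le_sylow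
  obtain ⟨c, hc⟩ := MulAction.exists_smul_eq H (hp.toSylow hi) Q
  have key : ∀ a ∈ T, c⁻¹ * a * c ∈ L := by
    intro a ha
    have ha' : a ∈ ((c • hp.toSylow hi : Sylow t H) : Subgroup H) := by
      rw [hc]; exact hQ ha
    rw [Cfsg.Agent.Lib.Helper67.mem_smul_sylow_iff, IsPGroup.toSylow_coe] at ha'
    obtain ⟨w, -, hw⟩ := ha'
    rw [← hw]
    exact w.2
  intro a ha b hb
  have h1 := hL _ (key a ha) _ (key b hb)
  calc a * b = c * ((c⁻¹ * a * c) * (c⁻¹ * b * c)) * c⁻¹ := by group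
    _ = c * ((c⁻¹ * b * c) * (c⁻¹ * a * c)) * c⁻¹ := by rw [h1]
    _ = b * a := by group

/-- [E1] -/
theorem pkgE1 (hCop : PkgCop.{u}) (hE0 : PkgE0.{u}) (hNCQ : PkgNCQ.{u}) : PkgE1.{u} := by
  intro G _ _ n q e U a₀ st x t k ht htq hox hcx g h hg hh
  have hE0x := hE0 n (q ^ e) st.ctx x t k ht hox hcx
  obtain ⟨y, j, hoy, hyx, hyZ⟩ := hNCQ n q e U a₀ st x hcx
  have hqt : q.Coprime t := (Nat.coprime_primes st.hq ht).mpr (Ne.symm htq)
  have hyc : ∀ g : G, g * x = x * g → g * y = y * g :=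
    hE0x y hyx (hoy ▸ Nat.Coprime.pow_left j hqt)
  obtain ⟨ag, bg, hgd, ⟨ig, hgo⟩, hgc⟩ := prim_decomp g t ht
  obtain ⟨ah, bh, hhd, ⟨ih, hho⟩, hhc⟩ := prim_decomp h t ht
  have pw : ∀ (g : G) (a : ℕ), g * x = x * g → g ^ a * x = x * g ^ a := fun g a hg =>
    (Commute.pow_left (show Commute g x from hg) a).eq
  have cg2 : ∀ z : G, z * x = x * z → z * g ^ bg = g ^ bg * z := hE0x (g ^ bg) (pw g bg hg) hgc
  have ch2 : ∀ z : G, z * x = x * z → z * h ^ bh = h ^ bh * z := hE0x (h ^ bh) (pw h bh hh) hhc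
  suffices key : g ^ ag * h ^ ah = h ^ ah * g ^ ag by
    have c11 : Commute (g ^ ag) (h ^ ah) := key
    have c12 : Commute (g ^ ag) (h ^ bh) := ch2 _ (pw g ag hg)
    have c21 : Commute (g ^ bg) (h ^ ah) := (cg2 _ (pw h ah hh)).symm
    have c22 : Commute (g ^ bg) (h ^ bh) := (cg2 _ (pw h bh hh)).symm
    have h3 := (c11.mul_right c12).mul_left (c21.mul_right c22)
    rw [← hgd, ← hhd] at h3
    exact h3
  have hn1 : 1 < n := st.ctx.1
  have hm1 : 1 < q ^ e := st.ctx.2.1
  have hnm : n.Coprime (q ^ e) := st.ctx.2.2.1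
  have hrange : ∀ z : G, cidx z = 1 ∨ cidx z = n ∨ cidx z = q ^ e ∨ cidx z = n * q ^ e := by
    intro z
    have hz : cidx z ∈ ({1, n, q ^ e, n * q ^ e} : Set ℕ) := by
      rw [← st.ctx.2.2.2]; exact ⟨z, rfl⟩
    simpa only [Set.mem_insert_iff, Set.mem_singleton_iff] using hz
  have hgt : (orderOf (g ^ ag)).Coprime q := by
    rw [hgo]; exact Nat.Coprime.pow_left ig hqt.symm
  rcases hrange y with h1 | hn | hm | hnm'
  · exfalso
    apply hyZ
    have htop := Subgroup.index_eq_one.mp h1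
    rw [Subgroup.mem_center_iff]
    intro z
    have hz : z ∈ Subgroup.centralizer ({y} : Set G) := htop ▸ Subgroup.mem_top z
    exact Subgroup.mem_centralizer_singleton_iff.mp hz
  · -- case (b): `cidx y = n`
    have : Fact t.Prime := ⟨ht⟩
    have hb1 : ∀ z : ↥(Subgroup.centralizer ({y} : Set G)), (orderOf z).Coprime q →
        ∃ k' : ℕ, (ConjClasses.mk z).carrier.ncard = q ^ k' := by
      intro z hz
      rw [Cfsg.Agent.Lib.Helper67.ncard_conjClasses_carrier,
        Cfsg.Agent.Lib.Helper97.Breadth.centralizer_sub_eq,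
        Cfsg.Agent.Lib.Helper97.Breadth.idx_subOf]
      have hyz : y * (z : G) = (z : G) * y :=
        (Subgroup.mem_centralizer_singleton_iff.mp z.2).symm
      have hco : (orderOf y).Coprime (orderOf (z : G)) := by
        rw [hoy, Subgroup.orderOf_coe]
        exact Nat.Coprime.pow_left j hz.symm
      have hC := hCop y (z : G) hyz hco
      have hle : Subgroup.centralizer ({y * (z : G)} : Set G) ≤
          Subgroup.centralizer ({y} : Set G) := by
        rw [hC]; exact inf_le_left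
      have hdvd : n ∣ cidx (y * (z : G)) := by
        have := Subgroup.index_dvd_of_le hle
        rwa [show (Subgroup.centralizer ({y} : Set G)).index = n from hn] at this
      have hrel := Subgroup.relIndex_mul_index hle
      rw [hC, Subgroup.inf_relIndex_left, ← hC,
        show (Subgroup.centralizer ({y} : Set G)).index = n from hn] at hrel
      have hn0 : 0 < n := by omega
      rcases hrange (y * (z : G)) with c1 | c2 | c3 | c4
      · rw [c1] at hdvd
        have := Nat.dvd_one.mp hdvd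
        omega
      · refine ⟨0, ?_⟩
        rw [show (Subgroup.centralizer ({y * (z : G)} : Set G)).index = n from c2] at hrel
        rw [pow_zero]
        exact Nat.eq_of_mul_eq_mul_right hn0 (by rw [hrel, one_mul])
      · rw [c3] at hdvd
        have := Nat.Coprime.eq_one_of_dvd hnm hdvd
        omega
      · refine ⟨e, ?_⟩
        rw [show (Subgroup.centralizer ({y * (z : G)} : Set G)).index = n * q ^ e from c4] at hrel
        exact Nat.eq_of_mul_eq_mul_right hn0 (by rw [hrel, mul_comm])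
    obtain ⟨L, hLc, -, i, hLi⟩ := (Cfsg.Agent.S4034.result st.hq).mp hb1
    have hL : ∀ a ∈ L, ∀ b ∈ L, a * b = b * a := by
      intro a ha b hb
      exact congrArg (fun w : ↥L => (w : ↥(Subgroup.centralizer ({y} : Set G))))
        (hLc.is_comm.comm ⟨a, ha⟩ ⟨b, hb⟩)
    have hLt : ¬ t ∣ L.index := by
      rw [hLi]
      intro hd
      exact htq ((Nat.prime_dvd_prime_iff_eq ht st.hq).mp (ht.dvd_of_dvd_pow hd))
    -- the normal Sylow `t`-subgroup of `C(x)`
    obtain ⟨P₀⟩ : Nonempty (Sylow t ↥(Subgroup.centralizer ({x} : Set G))) := inferInstance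
    have hcen : ∀ y' : ↥(Subgroup.centralizer ({x} : Set G)), (orderOf y').Coprime t →
        y' ∈ Subgroup.center ↥(Subgroup.centralizer ({x} : Set G)) := by
      intro y' hy'
      rw [Subgroup.mem_center_iff]
      intro g'
      apply Subtype.ext
      have h1 := hE0x (y' : G) (Subgroup.mem_centralizer_singleton_iff.mp y'.2)
        (by rw [Subgroup.orderOf_coe]; exact hy') (g' : G)
        (Subgroup.mem_centralizer_singleton_iff.mp g'.2)
      simpa using h1
    have hP₀n := sylow_normal_of_central t hcen P₀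
    have hxg : g ^ ag ∈ Subgroup.centralizer ({x} : Set G) :=
      Subgroup.mem_centralizer_singleton_iff.mpr (pw g ag hg)
    have hxh : h ^ ah ∈ Subgroup.centralizer ({x} : Set G) :=
      Subgroup.mem_centralizer_singleton_iff.mpr (pw h ah hh)
    have hgP : (⟨g ^ ag, hxg⟩ : ↥(Subgroup.centralizer ({x} : Set G))) ∈ (P₀ : Subgroup _) :=
      mem_sylow_of_normal t P₀ hP₀n _ ig (by rw [Subgroup.orderOf_mk]; exact hgo)
    have hhP : (⟨h ^ ah, hxh⟩ : ↥(Subgroup.centralizer ({x} : Set G))) ∈ (P₀ : Subgroup _) :=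
      mem_sylow_of_normal t P₀ hP₀n _ ih (by rw [Subgroup.orderOf_mk]; exact hho)
    have hT : IsPGroup t ((((P₀ : Subgroup ↥(Subgroup.centralizer ({x} : Set G))).map
        (Subgroup.centralizer ({x} : Set G)).subtype).subgroupOf
          (Subgroup.centralizer ({y} : Set G)))) :=
      (P₀.isPGroup'.map _).comap_of_injective _ (Subgroup.subtype_injective _)
    have hyg : g ^ ag ∈ Subgroup.centralizer ({y} : Set G) :=
      Subgroup.mem_centralizer_singleton_iff.mpr (hyc _ (pw g ag hg))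
    have hyh : h ^ ah ∈ Subgroup.centralizer ({y} : Set G) :=
      Subgroup.mem_centralizer_singleton_iff.mpr (hyc _ (pw h ah hh))
    have h2 := comm_of_pgroup_of_abelian t L hL hLt _ hT ⟨g ^ ag, hyg⟩
      (Subgroup.mem_subgroupOf.mpr ⟨⟨g ^ ag, hxg⟩, hgP, rfl⟩) ⟨h ^ ah, hyh⟩
      (Subgroup.mem_subgroupOf.mpr ⟨⟨h ^ ah, hxh⟩, hhP, rfl⟩)
    exact congrArg (fun w : ↥(Subgroup.centralizer ({y} : Set G)) => (w : G)) h2
  · exact absurd rfl (st.hTm y q j st.hq hoy hm)
  · -- case (a): `cidx y = n * q ^ e`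
    have hE0y := hE0 n (q ^ e) st.ctx y q j st.hq hoy hnm'
    exact (hE0y (g ^ ag) (hyc _ (pw g ag hg)) hgt (h ^ ah) (hyc _ (pw h ah hh))).symm
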